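import Cfsg.Agent.Lib.ProductMeet.Inner
import Cfsg.Agent.Lib.Goldschmidt.General.RankFacts

/-!
# The split fact for the two kinds of sections (owner: helper10, S2767)

* `noAbelian_of_data` : with coordinates, an abelian invariant subgroup above the centre is central
* `splitFact_of_small`, `splitFact_of_equiv` : the fact for both kinds
* `secGood_of` : `SecGood` from the classification of the simple sections
-/

set_option autoImplicit false
set_option linter.unusedSectionVars false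
set_option linter.style.haveILetI false

namespace Cfsg.Agent.ProductMeet

open Cfsg Subgroup Cfsg.Agent.Goldschmidt Cfsg.Agent.Goldschmidt.General

universe u v

/-- An abelian invariant subgroup above the centre is central. -/
theorem noAbelian_of_data {L : Type u} [Group L] {P : Subgroup L} {q : ℕ} (B : Rank.Basic P q)
    (D : Rank.Data P q) {W : Subgroup L} (hW : W ≤ P)
    (hn : normalizer (P : Set L) ≤ normalizer (W : Set L)) (hc : ∀ a ∈ W, ∀ b ∈ W, a * b = b * a) :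
    W ≤ centre P := by
  classical
  obtain ⟨F, _, _, _, k, φ, ψ, l, n, D⟩ := D
  rcases D.kind with hP | ⟨-, hne, -⟩
  · exact fun x hx => ⟨hW hx, hP (hW hx)⟩
  let V : AddSubgroup F :=
    { carrier := φ '' (W : Set L)
      zero_mem' := ⟨1, W.one_mem, (D.φ_ker 1 (one_mem P)).2 (one_mem _)⟩
      add_mem' := by
        rintro _ _ ⟨x, hx, rfl⟩ ⟨y, hy, rfl⟩
        exact ⟨x * y, W.mul_mem hx hy, D.φ_mul x (hW hx) y (hW hy)⟩
      neg_mem' := by
        rintro _ ⟨x, hx, rfl⟩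
        exact ⟨x, hx, (CharTwo.neg_eq (φ x)).symm⟩ }
  have hkW : ∀ x ∈ W, k * x * k⁻¹ ∈ W := fun x hx => (mem_normalizer_iff.1 (hn D.mem) x).1 hx
  choose! g hg hge using fun (u : F) (hu : u ∈ V) => (hu : ∃ x ∈ (W : Set L), φ x = u)
  have hwell : ∀ x ∈ W, ∀ y ∈ W, φ x = φ y → x * x = y * y := fun x hx y hy e => by
    have h1 : φ (x⁻¹ * y) = 0 := by
      have h2 := D.φ_mul x (hW hx) (x⁻¹ * y) (hW (mul_mem (inv_mem hx) hy))
      rw [mul_inv_cancel_left, e] at h2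
      exact left_eq_add.1 h2
    have hzc := (D.φ_ker _ (hW (mul_mem (inv_mem hx) hy))).1 h1
    have hz2 := (B.omega _ (hW (mul_mem (inv_mem hx) hy))).2 hzc
    have hxy := hc x hx (x⁻¹ * y) (mul_mem (inv_mem hx) hy)
    calc x * x = x * x * ((x⁻¹ * y) * (x⁻¹ * y)) := by rw [hz2, mul_one]
      _ = x * (x * (x⁻¹ * y)) * (x⁻¹ * y) := by group
      _ = x * ((x⁻¹ * y) * x) * (x⁻¹ * y) := by rw [hxy]
      _ = y * y := by group
  have hV : ∀ u ∈ V, l * u ∈ V := by
    rintro _ ⟨x, hx, rfl⟩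
    exact ⟨k * x * k⁻¹, hkW x hx, D.φ_conj x (hW hx)⟩
  have hsqc : ∀ x ∈ W, x * x ∈ centre P := fun x hx => B.sq x (hW hx)
  have key := Rank.hom_eq_zero hV (fun u => ψ (g u * g u))
    (fun u hu u' hu' => by
      show ψ (g (u + u') * g (u + u')) = ψ (g u * g u) + ψ (g u' * g u')
      rw [← D.ψ_mul _ (hsqc _ (hg u hu)) _ (hsqc _ (hg u' hu')),
        hwell _ (hg _ (V.add_mem hu hu')) (g u * g u') (mul_mem (hg u hu) (hg u' hu'))
          (by rw [D.φ_mul _ (hW (hg u hu)) _ (hW (hg u' hu')), hge u hu, hge u' hu',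
            hge _ (V.add_mem hu hu')])]
      congr 1
      rw [show g u * g u' * (g u * g u') = g u * (g u' * g u) * g u' by group,
        hc _ (hg u' hu') _ (hg u hu)]
      group)
    (fun u hu => by
      show ψ (g (l * u) * g (l * u)) = n * ψ (g u * g u)
      rw [← D.ψ_conj _ (hsqc _ (hg u hu)),
        hwell _ (hg _ (hV u hu)) (k * g u * k⁻¹) (hkW _ (hg u hu))
          (by rw [D.φ_conj _ (hW (hg u hu)), hge u hu, hge _ (hV u hu)])]
      congr 1
      group)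
    hne
  intro x hx
  refine (B.omega x (hW hx)).1 (D.ψ_inj _ (hsqc x hx) ?_)
  have hu : φ x ∈ V := ⟨x, hx, rfl⟩
  rw [hwell x hx (g (φ x)) (hg _ hu) (hge _ hu).symm]
  exact key _ hu

/-- The fact from coordinates on every Sylow subgroup. -/
theorem splitFact_of_data {L : Type u} [Group L] {q : ℕ} (F : ShapeFacts L q)
    (hD : ∀ Q : Sylow 2 L, Rank.Basic (Q : Subgroup L) q ∧ Rank.Data (Q : Subgroup L) q) :
    SplitFact L := by
  intro Q W₁ W₂ h₁ h₂ hZ₁ hZ₂ hn₁ hn₂ hc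
  by_contra hno
  push Not at hno
  obtain ⟨⟨x₀, hx₀, hx₀Z⟩, y, hy, hyZ⟩ : (∃ x ∈ W₁, x ∉ centre (Q : Subgroup L)) ∧
      ∃ y ∈ W₂, y ∉ centre (Q : Subgroup L) :=
    ⟨SetLike.not_le_iff_exists.1 hno.1, SetLike.not_le_iff_exists.1 hno.2⟩
  obtain ⟨B, D⟩ := hD Q
  obtain ⟨h, hhN, htor, -, -⟩ := F.torus Q
  obtain ⟨k, hk⟩ := htor.trans _ (B.sq x₀ (h₁ hx₀)) _ (B.sq y (h₂ hy))
    (fun e => hx₀Z ((B.omega x₀ (h₁ hx₀)).1 e)) (fun e => hyZ ((B.omega y (h₂ hy)).1 e))
  set x := h ^ k * x₀ * (h ^ k)⁻¹ with hxdef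
  have hx : x ∈ W₁ := (mem_normalizer_iff.1 (hn₁ (pow_mem hhN k)) x₀).1 hx₀
  have hxx : x * x = y * y := by rw [hxdef, ← hk]; group
  have hxy := hc x hx y hy
  have hz : x⁻¹ * y ∈ centre (Q : Subgroup L) := by
    refine (B.omega _ (mul_mem (inv_mem (h₁ hx)) (h₂ hy))).1 ?_
    have h2 : y * x⁻¹ = x⁻¹ * y := ((show Commute x y from hxy).inv_left).eq.symm
    calc x⁻¹ * y * (x⁻¹ * y) = x⁻¹ * (y * x⁻¹) * y := by group
      _ = x⁻¹ * (x⁻¹ * y) * y := by rw [h2]
      _ = (x * x)⁻¹ * (y * y) := by group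
      _ = 1 := by rw [hxx, inv_mul_cancel]
  have hy1 : y ∈ W₁ := by simpa using mul_mem hx (hZ₁ hz)
  refine hyZ (noAbelian_of_data B D (W := W₁ ⊓ W₂) (inf_le_left.trans h₁)
    ((le_inf hn₁ hn₂).trans inf_normalizer_le_normalizer_inf)
    (fun a ha b hb => hc a ha.1 b hb.2) ⟨hy1, hy⟩)

/-- A simple group isomorphic to one of the models. -/
theorem splitFact_of_equiv {L : Type u} [Group L] [Finite L] [IsSimpleGroup L] {M : Type v} [Group M]
    {q : ℕ} (hM : Rank.Model M q) (e : L ≃* M) : ∃ r, ShapeFacts L r ∧ SplitFact L := by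
  have F := Rank.rankFacts_of_equiv hM e
  refine ⟨q, F.shapeFacts, splitFact_of_data F.shapeFacts fun P => ?_⟩
  obtain ⟨Ω, _, _, a, t, Q, h, -, hQ, -, B, D⟩ := hM
  obtain ⟨hf, h'⟩ := Rank.setup_comap h e
  letI := MulAction.compHom Ω e.toMonoidHom
  haveI := hf
  obtain ⟨g, hg⟩ := Facts.exists_conj_kernel h'
    (hQ.of_equiv (Q.equivMapOfInjective e.symm.toMonoidHom e.symm.injective)) P
  have e1 : ((Q.map e.symm.toMonoidHom).map (MulAut.conj g).toMonoidHom) = (P : Subgroup L) :=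
    SetLike.ext fun x => by
      rw [Subgroup.mem_map_equiv, MulAut.conj_symm_apply]
      exact (hg x).symm
  exact ⟨e1 ▸ (B.map e.symm).map (MulAut.conj g), e1 ▸ (D.map e.symm).map (MulAut.conj g)⟩

/-- The groups with small Sylow subgroups. -/
theorem splitFact_of_small {L : Type u} [Group L] {q : ℕ} (F : SmallFacts L q) : SplitFact L :=
  fun Q W₁ _ h₁ _ _ _ _ _ _ => Or.inl (by rw [F.centre_eq Q]; exact h₁)

/-- The two alternatives for a simple group with an elementary closed set. -/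
def SimpleShape (L : Type u) [Group L] : Prop :=
  ((∃ (F : Type) (_ : Field F) (_ : Fintype F) (n : ℕ), 2 ≤ n ∧ Fintype.card F = 2 ^ n ∧
      Nonempty (L ≃* Matrix.ProjectiveSpecialLinearGroup (Fin 2) F)) ∨
    Cfsg.Lie.IsoSuzuki L ∨
    (∃ (F : Type) (_ : Field F) (_ : Fintype F) (n : ℕ), 2 ≤ n ∧ Fintype.card F = (2 ^ n) ^ 2 ∧
      Nonempty (L ≃* Cfsg.PSU 3 F (2 ^ n)))) ∨
  ∃ q : ℕ, SmallFacts L q

/-- The facts for such a group. -/
theorem good_of_simpleShape {L : Type u} [Group L] [Finite L] [IsSimpleGroup L] (h : SimpleShape L) :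
    ∃ q : ℕ, ShapeFacts L q ∧ SplitFact L := by
  rcases h with (⟨F, _, _, n, hn, hF, ⟨e⟩⟩ | ⟨F, _, _, m, hm, hF, ⟨e⟩⟩ | ⟨F, _, _, n, hn, hF, ⟨e⟩⟩) | ⟨q, hq⟩
  · obtain ⟨e'⟩ := Rank.pgl_equiv_psl (n := n) (by omega) hF
    exact splitFact_of_equiv (Rank.model_pgl hn hF) (e.trans e')
  · exact splitFact_of_equiv (Rank.model_sz hm hF) (e.trans (Suzuki.lieEquiv hm hF).symm)
  · exact splitFact_of_equiv (Rank.model_psu hn hF).1 e
  · exact ⟨q, hq.shapeFacts, splitFact_of_small hq⟩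

/-- `SecGood` for every group, from the shape of the simple groups. -/
theorem secGood_of (hS : ∀ (L : Type u) [Group L] [Finite L], IsSimpleGroup L → (∃ a b : L, a * b ≠ b * a) →
      (∃ T : Set L, Goldschmidt.Elem T ∧ ∃ x ∈ T, x ≠ 1) → SimpleShape L)
    (X : Type u) [Group X] : SecGood X := fun L _ _ _ _ _ hs hna hT => by
  haveI := hs
  exact good_of_simpleShape (hS L hs hna hT)

end Cfsg.Agent.ProductMeet
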