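import Cfsg.Agent.Lib.ProductMeet.Reduce
import Cfsg.Agent.Lib.ProductMeet.Split
import Cfsg.Agent.Lib.Goldschmidt.General.SmallFacts
import Cfsg.Agent.Lib.Bender.Consumers
import Cfsg.Agent.Lib.Bender.RankOneHalf
import Cfsg.Agent.Lib.Aschbacher.CriterionL2Final

/-!
# The shapes of the simple sections from Goldschmidt's theorem (owner: helper10, S2767)

* `families_of_stronglyEmbedded` : the three families
* `secGood_of_mainAt` : `SecGood` from `MainAt`
* `product_meet_of_mainAt` : the statement S2767 from `MainAt`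
-/

set_option autoImplicit false
set_option linter.unusedSectionVars false
set_option linter.style.haveILetI false

namespace Cfsg.Agent.ProductMeet

open Cfsg Subgroup MulAction Cfsg.Agent.Goldschmidt Cfsg.Agent.Goldschmidt.General Cfsg.Agent.SuzukiRankOne

universe u

/-- A simple group with a strongly embedded subgroup is of one of the three families. -/
theorem families_of_stronglyEmbedded {G : Type u} [Group G] [Finite G] [IsSimpleGroup G] {M : Subgroup G}
    (hM : Cfsg.IsStronglyEmbedded M) :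
    (∃ (F : Type) (_ : Field F) (_ : Fintype F) (n : ℕ), 2 ≤ n ∧ Fintype.card F = 2 ^ n ∧
      Nonempty (G ≃* Matrix.ProjectiveSpecialLinearGroup (Fin 2) F)) ∨
    Cfsg.Lie.IsoSuzuki G ∨
    (∃ (F : Type) (_ : Field F) (_ : Fintype F) (n : ℕ), 2 ≤ n ∧ Fintype.card F = (2 ^ n) ^ 2 ∧
      Nonempty (G ≃* Cfsg.PSU 3 F (2 ^ n))) := by
  have hcore := Bender.normalCore_of_simple hM
  have h2 := two_involutions_of_simple hM
  obtain ⟨t, Q, h⟩ := Bender.rankOneHalf G M hM hcore h2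
  haveI := Bender.faithful_of_normalCore hcore
  obtain ⟨L, hL, hodd, hc⟩ := classify (kernelShape : KernelShape.{u, u}) Suzuki.suzukiShape h h2
  obtain rfl : L = ⊤ := hL.eq_bot_or_eq_top.resolve_left fun e => by
    rw [e, Subgroup.index_bot] at hodd
    exact Nat.not_even_iff_odd.2 hodd (even_iff_two_dvd.2
      ((Involution.orderOf_of_sq h.mul_self h.ne_one) ▸ orderOf_dvd_natCard t))
  rcases hc with ⟨F, _, _, ⟨n, hn, hF⟩, ⟨e⟩⟩ | ⟨F, _, _, m, hm, hF, ⟨e⟩⟩ | ⟨F, _, _, n, hn, hF, ⟨e⟩⟩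
  · exact Or.inl ⟨F, _, _, n, hn, hF, ⟨Subgroup.topEquiv.symm.trans e⟩⟩
  · exact Or.inr (Or.inl ⟨F, _, _, m, hm, hF, ⟨Subgroup.topEquiv.symm.trans e⟩⟩)
  · exact Or.inr (Or.inr ⟨F, _, _, n, hn, hF, ⟨Subgroup.topEquiv.symm.trans e⟩⟩)

/-- Every group has good sections, given Goldschmidt's theorem. -/
theorem secGood_of_mainAt (hMain : ∀ (L : Type u) [Group L] [Finite L], MainAt L) (X : Type u) [Group X] :
    SecGood X := by
  refine secGood_of (fun L _ _ hs hna ⟨T, hT, x, hx, hx1⟩ => ?_) X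
  haveI := hs
  haveI : Fact (Nat.Prime 2) := ⟨Nat.prime_two⟩
  by_cases hSE : HasStronglyEmbedded L
  · obtain ⟨M, hM⟩ := hSE
    exact Or.inl (families_of_stronglyEmbedded hM)
  obtain ⟨S, hS⟩ := (hT.isPGroup_zpowers hx).exists_le_sylow
  set A := hT.closed.sub (S : Subgroup L) S.isPGroup' with hA
  have hne : A ≠ ⊥ := fun e => hx1 (mem_bot.1 (e ▸ ⟨hS (mem_zpowers x), hx⟩))
  have hel : Cfsg.IsElementaryAbelian 2 A := by
    refine ⟨⟨⟨fun a b => Subtype.ext (hT.commute S.isPGroup' a.2.1 b.2.1 a.2.2 b.2.2).eq⟩⟩, fun a ha => ?_⟩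
    rw [pow_two]
    exact hT.sq a ha.2
  have hcl : Cfsg.IsStronglyClosed A (S : Subgroup L) :=
    ⟨fun a ha => ha.1, fun a ha g hg => ⟨hg, hT.closed.conj g a ha.2⟩⟩
  obtain ⟨hSel, h8⟩ := (hMain L hs hna S A hne hel hcl).resolve_left hSE
  exact Or.inr (smallTarget Aschbacher.coreFreeCriterion L hs hna hSE S hSel h8)

/-- S2767 from Goldschmidt's theorem. -/
theorem product_meet_of_mainAt (hMain : ∀ (L : Type u) [Group L] [Finite L], MainAt L) {G : Type u} [Group G]
    [Finite G] (S : Sylow 2 G) {S₁ S₂ : Subgroup G} (h₁ : IsStronglyClosed S₁ (S : Subgroup G))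
    (h₂ : IsStronglyClosed S₂ (S : Subgroup G)) (hc : ∀ a ∈ S₁, ∀ b ∈ S₂, a * b = b * a) :
    ⁅normalClosure (S₁ : Set G), normalClosure (S₂ : Set G)⁆ ≤
      normalClosure ((S₁ ⊓ S₂ : Subgroup G) : Set G) ⊔ pPrimeCore 2 G :=
  commutator_normalClosure_le (secGood_of_mainAt hMain G) S h₁ h₂ hc

end Cfsg.Agent.ProductMeet
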