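import Cfsg.Agent.Lib.Goldschmidt.Elem
import Cfsg.Agent.Lib.Components.PLike

/-!
# Commuting closed sets with arbitrary intersection (owner: helper10, S2767)

* `Pair T₁ T₂` : two closed sets whose members in a common 2-subgroup commute
* `Pair.elem` : the members squaring to one of `T₁ ∩ T₂` form an elementary closed set
* `Pair.image` : images modulo a normal subgroup
* `Pair.meet_core`, `Pair.meet_normal` : when the intersection passes to the quotient
* `le_of_central` : a normal subgroup of a core-free group that is odd over a central 2-subgroup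
-/

set_option autoImplicit false
set_option linter.unusedSectionVars false

namespace Cfsg.Agent.ProductMeet

open Cfsg Subgroup Cfsg.Agent.ClosedPair
open scoped commutatorElement

universe u

variable {G : Type u} [Group G]

/-- Two closed sets commuting inside 2-subgroups. -/
structure Pair (T₁ T₂ : Set G) : Prop where
  left : Closed T₁
  right : Closed T₂
  comm : ∀ P : Subgroup G, IsPGroup 2 P → ∀ x ∈ P, ∀ y ∈ P, x ∈ T₁ → y ∈ T₂ → x * y = y * x

/-- The intersection of two closed sets is closed. -/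
theorem closed_inter {T₁ T₂ : Set G} (h₁ : Closed T₁) (h₂ : Closed T₂) : Closed (T₁ ∩ T₂) where
  one := ⟨h₁.one, h₂.one⟩
  conj g x hx := ⟨h₁.conj g x hx.1, h₂.conj g x hx.2⟩
  pow x hx := h₁.pow x hx.1
  mul P hP x hx y hy a b := ⟨h₁.mul P hP x hx y hy a.1 b.1, h₂.mul P hP x hx y hy a.2 b.2⟩

variable {T₁ T₂ : Set G}

theorem Pair.symm (h : Pair T₁ T₂) : Pair T₂ T₁ :=
  ⟨h.right, h.left, fun P hP x hx y hy a b => (h.comm P hP y hy x hx b a).symm⟩

theorem Pair.inter (h : Pair T₁ T₂) : Closed (T₁ ∩ T₂) := closed_inter h.left h.right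

variable [Finite G]

/-- The involutions of the intersection, with the identity. -/
theorem Pair.elem (h : Pair T₁ T₂) : Goldschmidt.Elem {x | x ∈ T₁ ∩ T₂ ∧ x * x = 1} where
  closed :=
    { one := ⟨h.inter.one, one_mul 1⟩
      conj := fun g x hx => ⟨h.inter.conj g x hx.1, by
        rw [show g * x * g⁻¹ * (g * x * g⁻¹) = g * (x * x) * g⁻¹ by group, hx.2, mul_one, mul_inv_cancel]⟩
      pow := fun x hx => h.left.pow x hx.1.1
      mul := fun P hP x hx y hy a b => ⟨h.inter.mul P hP x hx y hy a.1 b.1, by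
        rw [show x * y * (x * y) = x * (y * x) * y by group, ← h.comm P hP x hx y hy a.1.1 b.1.2,
          show x * (x * y) * y = x * x * (y * y) by group, a.2, b.2, one_mul]⟩ }
  sq x hx := hx.2

/-- A closed set contains an involution of every cyclic subgroup of a member. -/
theorem exists_involution {T : Set G} (h : Closed T) {x : G} (hx : x ∈ T) (hx1 : x ≠ 1) :
    ∃ n : ℕ, x ^ n ∈ T ∧ x ^ n * x ^ n = 1 ∧ x ^ n ≠ 1 := by
  obtain ⟨k, hk⟩ := h.pow x hx
  obtain ⟨j, -, hj⟩ := (Nat.dvd_prime_pow Nat.prime_two).1 (orderOf_dvd_of_pow_eq_one hk)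
  rcases j with _ | j
  · exact absurd (orderOf_eq_one_iff.1 (by simpa using hj)) hx1
  · refine ⟨2 ^ j, h.pow_mem' hx _, ?_, fun e => ?_⟩
    · rw [← pow_add, ← two_mul, ← pow_succ', ← hj, pow_orderOf_eq_one]
    · have := orderOf_dvd_of_pow_eq_one e
      rw [hj] at this
      exact absurd (Nat.pow_dvd_pow_iff_le_right (by norm_num) |>.1 this) (by omega)

/-- Lifting a pair modulo a normal subgroup into one Sylow subgroup. -/
theorem exists_lift₂ {A B : Set G} (hA : Closed A) (hB : Closed B) (N : Subgroup G) [N.Normal] {x y : G}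
    (hx : x ∈ A) (hy : y ∈ B) (Pb : Subgroup (G ⧸ N)) (hPb : IsPGroup 2 Pb)
    (hxP : QuotientGroup.mk' N x ∈ Pb) (hyP : QuotientGroup.mk' N y ∈ Pb) :
    ∃ (P : Sylow 2 G) (x' y' : G), x' ∈ A ∧ y' ∈ B ∧ x' ∈ (P : Subgroup G) ∧ y' ∈ (P : Subgroup G) ∧
      QuotientGroup.mk' N x' = QuotientGroup.mk' N x ∧ QuotientGroup.mk' N y' = QuotientGroup.mk' N y := by
  obtain ⟨P, hP⟩ := exists_sylow_ge_image N Pb hPb
  obtain ⟨n, -, hnP, hnT, en⟩ := hA.exists_lift N P hx (hP hxP)
  obtain ⟨m, -, hmP, hmT, em⟩ := hB.exists_lift N P hy (hP hyP)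
  exact ⟨P, _, _, hnT, hmT, hnP, hmP, en, em⟩

/-- Congruent members can be lifted into one Sylow subgroup. -/
theorem exists_lift_congr {A B : Set G} (hA : Closed A) (hB : Closed B) (N : Subgroup G) [N.Normal]
    {x y : G} (hx : x ∈ A) (hy : y ∈ B) (he : x⁻¹ * y ∈ N) :
    ∃ (P : Sylow 2 G) (x' y' : G), x' ∈ A ∧ y' ∈ B ∧ x' ∈ (P : Subgroup G) ∧ y' ∈ (P : Subgroup G) ∧
      x'⁻¹ * y' ∈ N ∧ x⁻¹ * x' ∈ N := by
  have hxy : QuotientGroup.mk' N x = QuotientGroup.mk' N y := QuotientGroup.eq.2 he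
  obtain ⟨P, x', y', hx', hy', hxP, hyP, ex, ey⟩ := exists_lift₂ hA hB N hx hy
    ((zpowers x).map (QuotientGroup.mk' N)) ((hA.isPGroup_zpowers hx).map _)
    (mem_map_of_mem _ (mem_zpowers x)) (hxy ▸ mem_map_of_mem _ (mem_zpowers x))
  exact ⟨P, x', y', hx', hy', hxP, hyP, QuotientGroup.eq.1 (ex.trans (hxy.trans ey.symm)),
    QuotientGroup.eq.1 ex.symm⟩

/-- Images modulo a normal subgroup. -/
theorem Pair.image (h : Pair T₁ T₂) (N : Subgroup G) [N.Normal] :
    Pair (QuotientGroup.mk' N '' T₁) (QuotientGroup.mk' N '' T₂) where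
  left := h.left.image N
  right := h.right.image N
  comm Pb hPb x hx y hy h1 h2 := by
    obtain ⟨a, ha, rfl⟩ := h1
    obtain ⟨b, hb, rfl⟩ := h2
    obtain ⟨P, a', b', ha', hb', haP, hbP, ea, eb⟩ := exists_lift₂ h.left h.right N ha hb Pb hPb hx hy
    rw [← ea, ← eb, ← map_mul, ← map_mul, h.comm _ P.isPGroup' _ haP _ hbP ha' hb']

/-- The intersection passes to the quotient by the core. -/
theorem Pair.meet_core (h : Pair T₁ T₂) {x y : G} (hx : x ∈ T₁) (hy : y ∈ T₂)
    (he : x⁻¹ * y ∈ pPrimeCore 2 G) : ∃ w ∈ T₁ ∩ T₂, x⁻¹ * w ∈ pPrimeCore 2 G := by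
  haveI : Fact (Nat.Prime 2) := ⟨Nat.prime_two⟩
  obtain ⟨P, x', y', hx', hy', hxP, hyP, hxy, hxx⟩ := exists_lift_congr h.left h.right _ hx hy he
  have h1 : x'⁻¹ * y' = 1 := Coprime.eq_one_of_mem_of_mem
    (Coprime.coprime_of_isPGroup (Cores.coprime_card_pPrimeCore 2) P.isPGroup') hxy
    ((P : Subgroup G).mul_mem ((P : Subgroup G).inv_mem hxP) hyP)
  exact ⟨x', ⟨hx', (inv_mul_eq_one.1 h1) ▸ hy'⟩, hxx⟩

/-- The intersection passes to the quotient by a normal 2-subgroup consisting of common members. -/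
theorem Pair.meet_normal (h : Pair T₁ T₂) {B : Subgroup G} [B.Normal] (hB : IsPGroup 2 B)
    (hBT : ∀ b ∈ B, b ∈ T₂) {x y : G} (hx : x ∈ T₁) (hy : y ∈ T₂) (he : x⁻¹ * y ∈ B) :
    x ∈ T₁ ∩ T₂ := by
  refine ⟨hx, ?_⟩
  have hP : IsPGroup 2 ↥(zpowers x ⊔ B) :=
    IsPGroup.to_sup_of_normal_right (h.left.isPGroup_zpowers hx) hB
  have hyP : y ∈ zpowers x ⊔ B := by simpa using mul_mem_sup (mem_zpowers x) he
  have := h.right.mul _ hP y hyP (x⁻¹ * y)⁻¹ (mem_sup_right (inv_mem he)) hy (hBT _ (inv_mem he))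
  rwa [show y * (x⁻¹ * y)⁻¹ = x by group] at this

/-- A normal subgroup of a core-free group, odd over a central 2-subgroup `B`, lies in `B`. -/
theorem le_of_central (hO : pPrimeCore 2 G = ⊥) {U B : Subgroup G} [U.Normal] (hBU : B ≤ U)
    (hB : IsPGroup 2 B) (hc : U ≤ centralizer (B : Set G)) (hodd : (B.relIndex U).Coprime 2) :
    U ≤ B := by
  haveI : Fact (Nat.Prime 2) := ⟨Nat.prime_two⟩
  haveI : (B.subgroupOf U).Normal :=
    normal_subgroupOf_of_le_normalizer (hc.trans (centralizer_le_normalizer _))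
  obtain ⟨k, hk⟩ := IsPGroup.iff_card.1 hB
  have hcard : Nat.card ↥(B.subgroupOf U) = 2 ^ k := by rw [Cores.card_subgroupOf hBU, hk]
  have hcop : (Nat.card ↥(B.subgroupOf U)).Coprime (B.subgroupOf U).index := by
    rw [hcard]; exact (Nat.Coprime.pow_right k hodd).symm
  obtain ⟨H, hH⟩ := exists_right_complement'_of_coprime hcop
  have hHn : H.Normal := by
    rw [← normalizer_eq_top_iff, eq_top_iff, ← hH.sup_eq_top]
    refine sup_le (fun b hb => ?_) le_normalizer
    refine centralizer_le_normalizer _ (mem_centralizer_iff.2 fun a _ => Subtype.ext ?_)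
    exact (mem_centralizer_iff.1 (hc a.2) b (mem_subgroupOf.1 hb)).symm
  have hHcard : (Nat.card ↥H).Coprime 2 := by
    rw [show Nat.card ↥H = B.relIndex U from hH.symm.index_eq_card.symm]; exact hodd
  have h1 : H.map U.subtype ≤ pPrimeCore 2 G := by
    refine Cores.le_pPrimeCore_of_isSubnormal ?_ (by rwa [Cores.card_map_subtype])
    exact IsSubnormal.trans' (Normal.isSubnormal hHn) (Normal.isSubnormal inferInstance)
  rw [hO, le_bot_iff, map_eq_bot_iff_of_injective _ U.subtype_injective] at h1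
  subst h1
  intro u hu
  exact mem_subgroupOf.1 ((sup_bot_eq (B.subgroupOf U) ▸ hH.sup_eq_top).ge (mem_top (⟨u, hu⟩ : U)))

end Cfsg.Agent.ProductMeet
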