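import Cfsg.Agent.Lib.ProductMeet.Basic
import Cfsg.Agent.Lib.Goldschmidt.General.Inner
import Cfsg.Agent.Lib.Cores.Subnormal

/-!
# A component with a common member: one of the two sets acts by inner automorphisms (owner: helper10, S2767)

* `SplitFact L` : two commuting subgroups between the centre of a Sylow 2-subgroup and it, normalised by
  its normaliser, are not both larger than the centre
* `SecGood X` : every simple section with an elementary closed set has `ShapeFacts` and `SplitFact`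
* `Marked` : components with a non-central involution of the intersection
* `normalizes`, `tame_or_tame`, `mem_inner_of_tame`
-/

set_option autoImplicit false
set_option linter.unusedSectionVars false
set_option linter.style.haveILetI false

namespace Cfsg.Agent.ProductMeet

open Cfsg Subgroup Cfsg.Agent.Components Cfsg.Agent.Goldschmidt Cfsg.Agent.Goldschmidt.General
open scoped commutatorElement

universe u

/-- Two commuting `N(Q)`-invariant subgroups above the centre of `Q` are not both larger. -/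
def SplitFact (L : Type u) [Group L] : Prop :=
  ∀ Q : Sylow 2 L, ∀ W₁ W₂ : Subgroup L, W₁ ≤ (Q : Subgroup L) → W₂ ≤ (Q : Subgroup L) →
    centre (Q : Subgroup L) ≤ W₁ → centre (Q : Subgroup L) ≤ W₂ →
    normalizer ((Q : Subgroup L) : Set L) ≤ normalizer (W₁ : Set L) →
    normalizer ((Q : Subgroup L) : Set L) ≤ normalizer (W₂ : Set L) →
    (∀ a ∈ W₁, ∀ b ∈ W₂, a * b = b * a) →
    W₁ ≤ centre (Q : Subgroup L) ∨ W₂ ≤ centre (Q : Subgroup L)

/-- Every non-abelian simple section with an elementary closed set has the facts used. -/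
def SecGood (X : Type u) [Group X] : Prop :=
  ∀ (L : Type u) [Group L] [Finite L] (H : Subgroup X) (f : ↥H →* L), Function.Surjective f →
    IsSimpleGroup L → (∃ a b : L, a * b ≠ b * a) → (∃ T : Set L, Goldschmidt.Elem T ∧ ∃ x ∈ T, x ≠ 1) →
    ∃ q : ℕ, ShapeFacts L q ∧ SplitFact L

theorem SecGood.quotient {X : Type u} [Group X] (h : SecGood X) (N : Subgroup X) [N.Normal] :
    SecGood (X ⧸ N) := fun L _ _ H f hf =>
  h L (H.comap (QuotientGroup.mk' N)) (f.comp ((QuotientGroup.mk' N).subgroupComap H))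
    (hf.comp ((QuotientGroup.mk' N).subgroupComap_surjective_of_surjective H (QuotientGroup.mk'_surjective N)))

variable {G : Type u} [Group G]

/-- A component containing a non-central involution common to both sets. -/
def Marked (T₁ T₂ : Set G) (K : Subgroup G) : Prop :=
  Cfsg.IsComponent K ∧ ∃ v ∈ T₁ ∩ T₂, v * v = 1 ∧ v ∈ K ∧ v ∉ centerOf K

/-- All members of `T` in `K` square into the centre of `K`. -/
def Tame (T : Set G) (K : Subgroup G) : Prop :=
  ∀ t ∈ T, t ∈ K → t * t ∈ centerOf K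

theorem marked_symm {T₁ T₂ : Set G} {K : Subgroup G} (h : Marked T₁ T₂ K) : Marked T₂ T₁ K :=
  ⟨h.1, let ⟨v, hv, h1⟩ := h.2; ⟨v, ⟨hv.2, hv.1⟩, h1⟩⟩

variable [Finite G] {T₁ T₂ : Set G} {K : Subgroup G}

/-- A common member in the same component as a member. -/
theorem exists_member_sylow (h : Pair T₁ T₂) (hK : Marked T₁ T₂ K) (P : Sylow 2 G) :
    ∃ v ∈ T₁ ∩ T₂, v * v = 1 ∧ v ∈ K ∧ v ∉ centerOf K ∧ v ∈ (P : Subgroup G) := by
  haveI : Fact (Nat.Prime 2) := ⟨Nat.prime_two⟩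
  obtain ⟨v, hv, hv2, hvK, hvZ⟩ := hK.2
  obtain ⟨Q, hQ⟩ := Cores.sylow_inf_isSubnormal P hK.1.1
  obtain ⟨R, hR⟩ := ((h.elem.isPGroup_zpowers ⟨hv, hv2⟩).comap_of_injective K.subtype
    K.subtype_injective).exists_le_sylow
  obtain ⟨k, hk⟩ := MulAction.exists_smul_eq ↥K R Q
  have hkQ : k * ⟨v, hvK⟩ * k⁻¹ ∈ (Q : Subgroup ↥K) := by
    rw [← hk, Sylow.coe_subgroup_smul, Coprime.mem_conj]
    simpa [mul_assoc] using hR (show (⟨v, hvK⟩ : ↥K) ∈ (zpowers v).comap K.subtype from mem_zpowers v)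
  rw [hQ, mem_subgroupOf] at hkQ
  have h2 := h.elem.closed.conj (k : G) v ⟨hv, hv2⟩
  refine ⟨_, h2.1, h2.2, K.mul_mem (K.mul_mem k.2 hvK) (K.inv_mem k.2), fun hc => hvZ ?_,
    by simpa using hkQ⟩
  obtain ⟨-, hzc⟩ := mem_centerOf.1 hc
  have h1 := hzc k k.2
  have h3 : (k : G) * v * (k : G)⁻¹ = v := by
    calc (k : G) * v * (k : G)⁻¹ = (k : G)⁻¹ * ((k : G) * ((k : G) * v * (k : G)⁻¹)) := by group
      _ = (k : G)⁻¹ * (((k : G) * v * (k : G)⁻¹) * k) := by rw [h1]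
      _ = v := by group
  rwa [h3] at hc

/-- Members normalise the marked components. -/
theorem normalizes (h : Pair T₁ T₂) (hK : Marked T₁ T₂ K) {x : G} (hx : x ∈ T₁) :
    x ∈ normalizer (K : Set G) := by
  obtain ⟨P, hP⟩ := (h.left.isPGroup_zpowers hx).exists_le_sylow
  obtain ⟨v, hv, -, hvK, hvZ, hvP⟩ := exists_member_sylow h hK P
  have hxv := h.comm _ P.isPGroup' x (hP (mem_zpowers x)) v hvP hx hv.2
  by_contra hn
  set L := K.map (MulAut.conj x).toMonoidHom with hL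
  have hLc : Cfsg.IsComponent L := IsComponent.conj hK.1 x
  have hne : K ≠ L := by
    intro e
    refine hn (Coprime.mem_normalizer_of_forall fun k hk => ?_)
    exact e.ge ⟨k, hk, rfl⟩
  refine hvZ (mem_centerOf.2 ⟨hvK, fun k hk => ?_⟩)
  have hvL : v ∈ L := ⟨v, hvK, show x * v * x⁻¹ = v by rw [hxv, mul_inv_cancel_right]⟩
  exact commutatorElement_eq_one_iff_commute.1 (mem_bot.1
    (IsComponent.commutator_eq_bot hK.1 hLc hne ▸ commutator_mem_commutator hk hvL))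

/-- The chosen data in a Sylow subgroup. -/
theorem exists_frame (hO : pPrimeCore 2 G = ⊥) (hG : SecGood G) (h : Pair T₁ T₂)
    (hK : Marked T₁ T₂ K) (P : Sylow 2 G) :
    ∃ (q : ℕ) (Qb : Sylow 2 (↥K ⧸ center ↥K)), ShapeFacts (↥K ⧸ center ↥K) q ∧
      SplitFact (↥K ⧸ center ↥K) ∧
      (∀ y : ↥K, cproj K y ∈ (Qb : Subgroup (↥K ⧸ center ↥K)) ↔ (y : G) ∈ (P : Subgroup G)) ∧
      ∀ z ∈ centre (Qb : Subgroup (↥K ⧸ center ↥K)), ∃ b : ↥K, (b : G) ∈ T₁ ∩ T₂ ∧
        (b : G) ∈ (P : Subgroup G) ∧ cproj K b = z := by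
  classical
  haveI : Fact (Nat.Prime 2) := ⟨Nat.prime_two⟩
  have hT := h.elem
  haveI : IsSimpleGroup (↥K ⧸ center ↥K) := hK.1.2.2
  set π := cproj K with hπ
  have hπs : Function.Surjective π := QuotientGroup.mk'_surjective _
  have hncomm : ∃ x y : ↥K ⧸ center K, x * y ≠ y * x := by
    by_contra hno
    push Not at hno
    haveI : Group.IsSolvable (↥K ⧸ center K) := Group.isSolvable_of_comm hno
    haveI : Group.IsSolvable (center K) := Group.isSolvable_of_comm fun a b =>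
      Subtype.ext (mem_center_iff.1 b.2 a)
    exact IsQuasisimple.not_isSolvable hK.1.2 (Group.isSolvable_of_ker_le_range (center K).subtype π
      (by rw [hπ, QuotientGroup.ker_mk', range_subtype]))
  obtain ⟨v, hv, hv2, hvK, hvZ, hvP⟩ := exists_member_sylow h hK P
  have hv1 : π ⟨v, hvK⟩ ≠ 1 := fun e => hvZ ⟨⟨v, hvK⟩, (QuotientGroup.eq_one_iff _).1 e, rfl⟩
  obtain ⟨q, F, hsplit⟩ := hG (↥K ⧸ center ↥K) K π hπs inferInstance hncomm
    ⟨π '' (K.subtype ⁻¹' {x | x ∈ T₁ ∩ T₂ ∧ x * x = 1}), (hT.preimage K.subtype_injective).image (center ↥K),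
      π ⟨v, hvK⟩, ⟨⟨v, hvK⟩, ⟨hv, hv2⟩, rfl⟩, hv1⟩
  obtain ⟨Q, hQ⟩ := Cores.sylow_inf_isSubnormal P hK.1.1
  set Qb := Q.mapSurjective hπs with hQb
  have hmem : ∀ y : ↥K, π y ∈ (Qb : Subgroup (↥K ⧸ center ↥K)) ↔ (y : G) ∈ (P : Subgroup G) := by
    intro y
    rw [hQb, Sylow.coe_mapSurjective, ← mem_comap, comap_map_eq, hπ, QuotientGroup.ker_mk']
    have hle : center ↥K ≤ (Q : Subgroup ↥K) := fun z hz => by
      have h2 := Q.is_maximal' (IsPGroup.to_sup_of_normal_right Q.isPGroup'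
        (isPGroup_center_component hO hK.1)) le_sup_left
      exact h2 ▸ mem_sup_right hz
    rw [sup_eq_left.2 hle, hQ, mem_subgroupOf]
  refine ⟨q, Qb, F, hsplit, hmem, fun z hz => ?_⟩
  obtain ⟨hb, hbN, htor, -, -⟩ := F.torus Qb
  obtain ⟨h₀, hh₀⟩ := hπs hb
  have hvc : π ⟨v, hvK⟩ ∈ centre (Qb : Subgroup (↥K ⧸ center ↥K)) := by
    refine (F.omega Qb _ ((hmem _).2 hvP)).1 ?_
    rw [← map_mul, show (⟨v, hvK⟩ : ↥K) * ⟨v, hvK⟩ = 1 from Subtype.ext hv2, map_one]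
  by_cases hz1 : z = 1
  · exact ⟨1, ⟨h.left.one, h.right.one⟩, one_mem _, by rw [hz1, map_one]⟩
  obtain ⟨k, hk⟩ := htor.trans _ hvc z hz hv1 hz1
  refine ⟨h₀ ^ k * ⟨v, hvK⟩ * (h₀ ^ k)⁻¹, by simpa using h.inter.conj ((h₀ : G) ^ k) v hv,
    (hmem _).1 ?_, by rw [map_mul, map_mul, map_inv, map_pow, hh₀, hk]⟩
  rw [map_mul, map_mul, map_inv, map_pow, hh₀, hk]
  exact hz.1

/-- One of the two sets is tame in a marked component. -/
theorem tame_or_tame (hO : pPrimeCore 2 G = ⊥) (hG : SecGood G) (h : Pair T₁ T₂)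
    (hK : Marked T₁ T₂ K) : Tame T₁ K ∨ Tame T₂ K := by
  classical
  haveI : Fact (Nat.Prime 2) := ⟨Nat.prime_two⟩
  obtain ⟨P⟩ := (inferInstance : Nonempty (Sylow 2 G))
  obtain ⟨q, Qb, F, hsplit, hmem, honto⟩ := exists_frame hO hG h hK P
  set L := ↥K ⧸ center ↥K
  have sub : ∀ {T : Set G}, ClosedPair.Closed T → ∃ W : Subgroup L, ∀ w : L,
      w ∈ W ↔ ∃ y : ↥K, (y : G) ∈ T ∧ (y : G) ∈ (P : Subgroup G) ∧ cproj K y = w := by
    intro T hT
    refine ⟨(((hT.sub (P : Subgroup G) P.isPGroup').subgroupOf K)).map (cproj K), fun w => ⟨?_, ?_⟩⟩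
    · rintro ⟨y, hy, rfl⟩
      exact ⟨y, hy.2, hy.1, rfl⟩
    · rintro ⟨y, hyT, hyP, rfl⟩
      exact ⟨y, ⟨hyP, hyT⟩, rfl⟩
  obtain ⟨W₁, hW₁⟩ := sub h.left
  obtain ⟨W₂, hW₂⟩ := sub h.right
  have hle : ∀ {T : Set G} {W : Subgroup L}, (∀ w : L,
      w ∈ W ↔ ∃ y : ↥K, (y : G) ∈ T ∧ (y : G) ∈ (P : Subgroup G) ∧ cproj K y = w) →
      W ≤ (Qb : Subgroup L) := fun hW w hw => by
    obtain ⟨y, -, hy, rfl⟩ := (hW w).1 hw
    exact (hmem y).2 hy
  have hnorm : ∀ {T : Set G} {W : Subgroup L}, ClosedPair.Closed T → (∀ w : L,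
      w ∈ W ↔ ∃ y : ↥K, (y : G) ∈ T ∧ (y : G) ∈ (P : Subgroup G) ∧ cproj K y = w) →
      normalizer ((Qb : Subgroup L) : Set L) ≤ normalizer (W : Set L) := fun {T W} hT hW n hn => by
    refine Coprime.mem_normalizer_of_forall fun w hw => ?_
    obtain ⟨y, hyT, hyP, rfl⟩ := (hW w).1 hw
    obtain ⟨k, rfl⟩ := QuotientGroup.mk'_surjective _ n
    refine (hW _).2 ⟨k * y * k⁻¹, by simpa using hT.conj (k : G) y hyT, (hmem _).1 ?_, by simp⟩
    rw [map_mul, map_mul, map_inv]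
    exact (mem_normalizer_iff.1 hn _).1 ((hmem y).2 hyP)
  -- `W ≤ centre` gives tameness
  have htame : ∀ {T : Set G} {W : Subgroup L}, ClosedPair.Closed T → (∀ w : L,
      w ∈ W ↔ ∃ y : ↥K, (y : G) ∈ T ∧ (y : G) ∈ (P : Subgroup G) ∧ cproj K y = w) →
      W ≤ centre (Qb : Subgroup L) → Tame T K := fun {T W} hT hW hWZ t ht htK => by
    obtain ⟨Q, hQ⟩ := Cores.sylow_inf_isSubnormal P hK.1.1
    obtain ⟨R, hR⟩ := ((hT.isPGroup_zpowers ht).comap_of_injective K.subtype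
      K.subtype_injective).exists_le_sylow
    obtain ⟨k, hk⟩ := MulAction.exists_smul_eq ↥K R Q
    have hkQ : k * ⟨t, htK⟩ * k⁻¹ ∈ (Q : Subgroup ↥K) := by
      rw [← hk, Sylow.coe_subgroup_smul, Coprime.mem_conj]
      simpa [mul_assoc] using hR (show (⟨t, htK⟩ : ↥K) ∈ (zpowers t).comap K.subtype from mem_zpowers t)
    rw [hQ, mem_subgroupOf] at hkQ
    set s : ↥K := k * ⟨t, htK⟩ * k⁻¹ with hs
    have hsW : cproj K s ∈ W := (hW _).2 ⟨s, by simpa [hs] using hT.conj (k : G) t ht, hkQ, rfl⟩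
    have h1 : cproj K (s * s) = 1 := by
      rw [map_mul]; exact (F.omega Qb _ (hle hW hsW)).2 (hWZ hsW)
    have h2 : s * s ∈ center ↥K := (QuotientGroup.eq_one_iff _).1 h1
    refine ⟨⟨t, htK⟩ * ⟨t, htK⟩, ?_, rfl⟩
    have := (inferInstance : (center ↥K).Normal).conj_mem _ h2 k⁻¹
    rwa [hs, show k⁻¹ * (k * ⟨t, htK⟩ * k⁻¹ * (k * ⟨t, htK⟩ * k⁻¹)) * k⁻¹⁻¹ =
      ⟨t, htK⟩ * ⟨t, htK⟩ by group] at this
  have hcomm : ∀ a ∈ W₁, ∀ b ∈ W₂, a * b = b * a := by
    intro a ha b hb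
    obtain ⟨y, hy, hyP, rfl⟩ := (hW₁ a).1 ha
    obtain ⟨z, hz, hzP, rfl⟩ := (hW₂ b).1 hb
    rw [← map_mul, ← map_mul]
    exact congrArg _ (Subtype.ext (h.comm _ P.isPGroup' _ hyP _ hzP hy hz))
  have hZ₁ : centre (Qb : Subgroup L) ≤ W₁ := fun z hz => by
    obtain ⟨b, hb, hbP, e⟩ := honto z hz
    exact (hW₁ z).2 ⟨b, hb.1, hbP, e⟩
  have hZ₂ : centre (Qb : Subgroup L) ≤ W₂ := fun z hz => by
    obtain ⟨b, hb, hbP, e⟩ := honto z hz
    exact (hW₂ z).2 ⟨b, hb.2, hbP, e⟩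
  rcases hsplit Qb W₁ W₂ (hle hW₁) (hle hW₂) hZ₁ hZ₂ (hnorm h.left hW₁) (hnorm h.right hW₂) hcomm with
    e | e
  · exact Or.inl (htame h.left hW₁ e)
  · exact Or.inr (htame h.right hW₂ e)

/-- A tame set induces inner automorphisms. -/
theorem mem_inner_of_tame (hO : pPrimeCore 2 G = ⊥) (hG : SecGood G) (h : Pair T₁ T₂)
    (hK : Marked T₁ T₂ K) (ht : Tame T₁ K) {x : G} (hx : x ∈ T₁) :
    x ∈ K ⊔ centralizer (K : Set G) := by
  classical
  haveI : Fact (Nat.Prime 2) := ⟨Nat.prime_two⟩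
  have hxn := normalizes h hK hx
  obtain ⟨P, hP⟩ := (h.left.isPGroup_zpowers hx).exists_le_sylow
  have hxP : x ∈ (P : Subgroup G) := hP (mem_zpowers x)
  obtain ⟨q, Qb, F, -, hmem, honto⟩ := exists_frame hO hG h hK P
  obtain ⟨k, hk⟩ := h.left.pow x hx
  set α := ThreePrime.quotAut hxn with hα
  obtain ⟨s, -, hαs⟩ := F.autInner Qb α ⟨k, ThreePrime.quotAut_pow_eq_one _ hk⟩ (fun z hz => by
      obtain ⟨b, hb, hbP, rfl⟩ := honto z hz
      rw [hα, ThreePrime.quotAut_mk]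
      exact congrArg _ (Subtype.ext (show x * b * x⁻¹ = b by
        rw [h.comm _ P.isPGroup' x hxP b hbP hx hb.2, mul_inv_cancel_right])))
    (fun w hw => by
      obtain ⟨y, rfl⟩ := QuotientGroup.mk'_surjective _ w
      rw [hα, ThreePrime.quotAut_mk, ← map_inv, ← map_mul]
      set t : ↥K := y⁻¹ * ⟨x * y * x⁻¹, (mem_normalizer_iff.1 hxn y).1 y.2⟩ with htdef
      have hyP := (hmem y).1 hw
      have htv : (t : G) = ((y : G)⁻¹ * x * (y : G)⁻¹⁻¹) * x⁻¹ := by
        simp [htdef, mul_assoc]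
      have htP : (t : G) ∈ (P : Subgroup G) := by
        rw [htv]; exact mul_mem (mul_mem (mul_mem (inv_mem hyP) hxP) (inv_mem (inv_mem hyP))) (inv_mem hxP)
      have htT : (t : G) ∈ T₁ := by
        rw [htv]
        exact h.left.mul _ P.isPGroup' _ (mul_mem (mul_mem (inv_mem hyP) hxP) (inv_mem (inv_mem hyP)))
          _ (inv_mem hxP) (h.left.conj _ _ hx) (h.left.inv_mem hx)
      refine (F.omega Qb _ ((hmem t).2 htP)).1 ?_
      rw [← map_mul, cproj, QuotientGroup.mk'_apply, QuotientGroup.eq_one_iff]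
      obtain ⟨z, hz, hze⟩ := ht t htT t.2
      rwa [show t * t = z from Subtype.ext hze.symm])
  obtain ⟨k, rfl⟩ := QuotientGroup.mk'_surjective _ s
  have hkn : (k : G) ∈ normalizer (K : Set G) := le_normalizer k.2
  have hc : (k : G)⁻¹ * x ∈ centralizer (K : Set G) := by
    refine ThreePrime.centralizes_of_quotAut hK.1 (mul_mem (inv_mem hkn) hxn) ?_
    refine MulEquiv.ext fun g => ?_
    obtain ⟨w, rfl⟩ := QuotientGroup.mk'_surjective _ g
    rw [ThreePrime.quotAut_mk, MulAut.one_apply]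
    have h1 : cproj K ⟨x * w * x⁻¹, (mem_normalizer_iff.1 hxn w).1 w.2⟩ = cproj K (k * w * k⁻¹) := by
      rw [map_mul, map_mul, map_inv]
      exact MulEquiv.congr_fun hαs (cproj K w)
    have h2 : cproj K (k⁻¹ * ⟨x * w * x⁻¹, (mem_normalizer_iff.1 hxn w).1 w.2⟩ * k) = cproj K w := by
      rw [map_mul, map_mul, h1, ← map_mul, ← map_mul]
      exact congrArg _ (by group)
    rw [← h2]
    exact congrArg _ (Subtype.ext (by simp [mul_assoc]))
  simpa using mul_mem_sup k.2 hc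

/-- A product of a member of each set acts on a marked component by an inner automorphism. -/
theorem commutator_mem_inner (hO : pPrimeCore 2 G = ⊥) (hG : SecGood G) (h : Pair T₁ T₂)
    (hK : Marked T₁ T₂ K) {x y : G} (hx : x ∈ T₁) (hy : y ∈ T₂) :
    ⁅x, y⁆ ∈ K ⊔ centralizer (K : Set G) := by
  have hxn := normalizes h hK hx
  have hyn := normalizes h.symm (marked_symm hK) hy
  have hnorm : ∀ g ∈ normalizer (K : Set G), ∀ w ∈ K ⊔ centralizer (K : Set G),
      g * w * g⁻¹ ∈ K ⊔ centralizer (K : Set G) := by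
    intro g hg w hw
    obtain ⟨a, ha, c, hc, rfl⟩ := (Coprime.mem_sup_iff (centralizer_le_normalizer _)).1 hw
    rw [show g * (a * c) * g⁻¹ = (g * a * g⁻¹) * (g * c * g⁻¹) by group]
    refine mul_mem_sup ((mem_normalizer_iff.1 hg a).1 ha) (mem_centralizer_iff.2 fun b hb => ?_)
    have hb' : g⁻¹ * b * g ∈ K := (mem_normalizer_iff.1 hg _).2
      (by rwa [show g * (g⁻¹ * b * g) * g⁻¹ = b by group])
    have := mem_centralizer_iff.1 hc _ hb'
    calc b * (g * c * g⁻¹) = g * ((g⁻¹ * b * g) * c) * g⁻¹ := by group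
      _ = g * (c * (g⁻¹ * b * g)) * g⁻¹ := by rw [this]
      _ = g * c * g⁻¹ * b := by group
  rcases tame_or_tame hO hG h hK with ht | ht
  · have hxI := mem_inner_of_tame hO hG h hK ht hx
    rw [show ⁅x, y⁆ = x * (y * x⁻¹ * y⁻¹) by rw [commutatorElement_def]; group]
    exact mul_mem hxI (hnorm y hyn _ (inv_mem hxI))
  · have hyI := mem_inner_of_tame hO hG h.symm (marked_symm hK) ht hy
    rw [commutatorElement_def]
    exact mul_mem (hnorm x hxn _ hyI) (inv_mem hyI)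

/-- A member congruent to one of the other set modulo inner elements is inner. -/
theorem mem_inner_of_congr (hO : pPrimeCore 2 G = ⊥) (hG : SecGood G) (h : Pair T₁ T₂)
    (hK : Marked T₁ T₂ K) {x y : G} (hx : x ∈ T₁) (hy : y ∈ T₂)
    (he : x⁻¹ * y ∈ K ⊔ centralizer (K : Set G)) : x ∈ K ⊔ centralizer (K : Set G) := by
  rcases tame_or_tame hO hG h hK with ht | ht
  · exact mem_inner_of_tame hO hG h hK ht hx
  · have := mul_mem (mem_inner_of_tame hO hG h.symm (marked_symm hK) ht hy) (inv_mem he)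
    rwa [show y * (x⁻¹ * y)⁻¹ = x by group] at this

end Cfsg.Agent.ProductMeet
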