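import Cfsg.Agent.Lib.ProductMeet.Inner
import Cfsg.Agent.Lib.Goldschmidt.ThreePrime.Inner

/-!
# The product theorem with intersection (owner: helper10, S2767)

* `pairConc` : `[x, y] ∈ ⟨T₁ ∩ T₂⟩ O(G)` for a pair, given the facts on simple sections
* `commutator_normalClosure_le` : the form with two commuting strongly closed subgroups
-/

set_option autoImplicit false
set_option linter.unusedSectionVars false
set_option linter.style.haveILetI false

namespace Cfsg.Agent.ProductMeet

open Cfsg Subgroup Cfsg.Agent.Components Cfsg.Agent.Goldschmidt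
open scoped commutatorElement

universe u

variable {G : Type u} [Group G]

/-- The conclusion. -/
def Concl (T₁ T₂ : Set G) : Prop :=
  ∀ x ∈ T₁, ∀ y ∈ T₂, ⁅x, y⁆ ∈ closure (T₁ ∩ T₂) ⊔ pPrimeCore 2 G

/-- The product of the marked components. -/
def markedSup (T₁ T₂ : Set G) : Subgroup G := sSup {K | Marked T₁ T₂ K}

theorem le_markedSup {T₁ T₂ : Set G} {K : Subgroup G} (hK : Marked T₁ T₂ K) : K ≤ markedSup T₁ T₂ :=
  le_sSup (s := {K | Marked T₁ T₂ K}) hK

variable [Finite G] {T₁ T₂ : Set G}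

theorem marked_conj (h : Pair T₁ T₂) {K : Subgroup G} (hK : Marked T₁ T₂ K) (g : G) :
    Marked T₁ T₂ (K.map (MulAut.conj g).toMonoidHom) := by
  obtain ⟨hKc, v, hv, hv2, hvK, hvZ⟩ := hK
  have hv' := h.elem.closed.conj g v ⟨hv, hv2⟩
  refine ⟨IsComponent.conj hKc g, g * v * g⁻¹, hv'.1, hv'.2, ⟨v, hvK, rfl⟩, fun hc => hvZ ?_⟩
  obtain ⟨-, hzc⟩ := mem_centerOf.1 hc
  refine mem_centerOf.2 ⟨hvK, fun k hk => ?_⟩
  have h1 := hzc (g * k * g⁻¹) ⟨k, hk, rfl⟩
  calc k * v = g⁻¹ * (g * k * g⁻¹ * (g * v * g⁻¹)) * g := by group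
    _ = v * k := by rw [h1]; group

theorem markedSup_normal (h : Pair T₁ T₂) : (markedSup T₁ T₂).Normal := by
  refine ⟨fun n hn g => ?_⟩
  have hle : markedSup T₁ T₂ ≤ (markedSup T₁ T₂).comap (MulAut.conj g).toMonoidHom :=
    sSup_le fun K hK => map_le_iff_le_comap.1 (le_sSup (show Marked T₁ T₂ _ from marked_conj h hK g))
  exact hle hn

/-- The marked components lie in the closure of the intersection. -/
theorem markedSup_le_closure (h : Pair T₁ T₂) : markedSup T₁ T₂ ≤ closure (T₁ ∩ T₂) := by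
  refine sSup_le ?_
  rintro K ⟨hKc, v, hv, -, hvK, hvZ⟩
  haveI := h.inter.normal_closure
  rcases IsQuasisimple.normal_eq_top_or_le_center hKc.2 ((closure (T₁ ∩ T₂)).subgroupOf K) with e | e
  · exact subgroupOf_eq_top.1 e
  · exact absurd ⟨⟨v, hvK⟩, e (mem_subgroupOf.2 (subset_closure hv)), rfl⟩ hvZ

/-- An element inner on every marked component is in the product of those and their centraliser. -/
theorem mem_markedSup_sup {g : G}
    (hg : ∀ K, Marked T₁ T₂ K → g ∈ K ⊔ centralizer (K : Set G)) :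
    g ∈ markedSup T₁ T₂ ⊔ centralizer (markedSup T₁ T₂ : Set G) := by
  classical
  have key : ∀ s : Finset (Subgroup G), (∀ K ∈ s, Marked T₁ T₂ K) →
      ∃ e ∈ markedSup T₁ T₂, ∀ K ∈ s, e * g ∈ centralizer (K : Set G) ∧
        ∀ J : Subgroup G, Cfsg.IsComponent J → J ∉ s → e ∈ centralizer (J : Set G) := by
    intro s
    induction s using Finset.induction_on with
    | empty => exact fun _ => ⟨1, one_mem _, fun K hK => absurd hK (Finset.notMem_empty K)⟩
    | insert K s hKs ih =>
      intro hs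
      obtain ⟨e, he, hec⟩ := ih fun J hJ => hs J (Finset.mem_insert_of_mem hJ)
      have hK := hs K (Finset.mem_insert_self K s)
      obtain ⟨b, hb, c, hc, hbc⟩ :=
        (Coprime.mem_sup_iff (centralizer_le_normalizer _)).1 (hg K hK)
      have hother : ∀ J : Subgroup G, Cfsg.IsComponent J → J ≠ K → b ∈ centralizer (J : Set G) := by
        intro J hJ hne
        refine mem_centralizer_iff.2 fun j hj => ?_
        exact (commutatorElement_eq_one_iff_commute.1 (mem_bot.1
          (IsComponent.commutator_eq_bot hK.1 hJ (Ne.symm hne) ▸ commutator_mem_commutator hb hj))).eq.symm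
      by_cases hs0 : s = ∅
      · subst hs0
        refine ⟨b⁻¹, inv_mem (le_markedSup hK hb), fun J hJ => ?_⟩
        obtain rfl : J = K := by simpa using hJ
        refine ⟨by rw [← hbc, inv_mul_cancel_left]; exact hc, fun J' hJ' hn => inv_mem (hother J' hJ' ?_)⟩
        exact fun e' => hn (by simp [e'])
      obtain ⟨K₀, hK₀⟩ := Finset.nonempty_iff_ne_empty.2 hs0
      have heK : e ∈ centralizer (K : Set G) := (hec K₀ hK₀).2 K hK.1 hKs
      refine ⟨b⁻¹ * e, mul_mem (inv_mem (le_markedSup hK hb)) he, fun J hJ => ?_⟩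
      refine ⟨?_, fun J' hJ' hn => mul_mem (inv_mem (hother J' hJ' fun e' => hn (by simp [e'])))
        ((hec K₀ hK₀).2 J' hJ' fun h' => hn (Finset.mem_insert_of_mem h'))⟩
      rcases Finset.mem_insert.1 hJ with rfl | hJ'
      · have : b⁻¹ * e * g = (b⁻¹ * e * b) * c := by rw [← hbc]; group
        rw [this]
        refine mul_mem (mem_centralizer_iff.2 fun j hj => ?_) hc
        have hj' : b * j * b⁻¹ ∈ J := J.mul_mem (J.mul_mem hb hj) (J.inv_mem hb)
        have := mem_centralizer_iff.1 heK _ hj'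
        calc j * (b⁻¹ * e * b) = b⁻¹ * ((b * j * b⁻¹) * e) * b := by group
          _ = b⁻¹ * (e * (b * j * b⁻¹)) * b := by rw [this]
          _ = b⁻¹ * e * b * j := by group
      · have hne : J ≠ K := fun e' => hKs (e' ▸ hJ')
        rw [mul_assoc]
        exact mul_mem (inv_mem (hother J (hs J hJ).1 hne)) (hec J hJ').1
  obtain ⟨e, he, hec⟩ := key (Set.toFinite {K | Marked T₁ T₂ K}).toFinset fun K hK => by simpa using hK
  have hc : e * g ∈ centralizer (markedSup T₁ T₂ : Set G) := by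
    have h1 : markedSup T₁ T₂ ≤ centralizer (zpowers (e * g) : Set G) :=
      sSup_le fun K hK => le_centralizer_iff.1 (zpowers_le.2 (hec K (by simpa using hK)).1)
    exact le_centralizer_iff.1 h1 (mem_zpowers _)
  simpa using mul_mem_sup (inv_mem he) hc

/-- The main case: core-free, no common member in `O₂`. -/
theorem concl_main (hO : pPrimeCore 2 G = ⊥) (hG : SecGood G) (h : Pair T₁ T₂)
    (hQ : ∀ x ∈ T₁ ∩ T₂, x ∈ pCore 2 G → x = 1) : Concl T₁ T₂ := by
  classical
  haveI : Fact (Nat.Prime 2) := ⟨Nat.prime_two⟩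
  haveI hEn : (markedSup T₁ T₂).Normal := markedSup_normal h
  set E := markedSup T₁ T₂ with hE
  haveI hCn : (centralizer (E : Set G)).Normal := inferInstance
  set C := centralizer (E : Set G) with hC
  have hEc : ∀ e ∈ E, ∀ c ∈ C, e * c = c * e := fun e he c hc => mem_centralizer_iff.1 hc e he
  have hmarkE : ∀ K, Marked T₁ T₂ K → E ⊔ C ≤ K ⊔ centralizer (K : Set G) := by
    intro K hK
    refine sup_le (sSup_le fun J hJ => ?_) (le_trans (centralizer_le (le_markedSup hK))
      le_sup_right)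
    by_cases e : J = K
    · exact e ▸ le_sup_left
    · refine le_trans (fun j hj => mem_centralizer_iff.2 fun k hk => ?_) le_sup_right
      exact (commutatorElement_eq_one_iff_commute.1 (mem_bot.1
        (IsComponent.commutator_eq_bot hJ.1 hK.1 e ▸ commutator_mem_commutator hj hk))).eq.symm
  -- no common member centralises `E`
  have hDC : ∀ x ∈ T₁ ∩ T₂, x ∈ C → x = 1 := by
    intro x hx hxC
    by_contra hx1
    obtain ⟨n, hnT, hn2, hn1⟩ := exists_involution h.inter hx hx1
    refine hn1 (hQ _ hnT (ThreePrime.mem_pCore_of_centralizes_layer hO h.elem ⟨hnT, hn2⟩ ?_))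
    have hle : Cfsg.layer G ≤ centralizer (zpowers (x ^ n) : Set G) := layer_le fun K hK => by
      rw [le_centralizer_iff, zpowers_le]
      by_cases hM : Marked T₁ T₂ K
      · exact centralizer_le (le_markedSup hM) (C.pow_mem hxC n)
      · by_contra hne
        obtain ⟨v, hv, hvK, hvZ, -⟩ := exists_noncentral h.elem hO hK (a := x ^ n) ⟨hnT, hn2⟩ fun e =>
          hne (mem_centralizer_iff.2 fun k hk => (mem_centralizer_singleton_iff.1 (e hk)))
        exact hM ⟨hK, v, hv.1, hv.2, hvK, hvZ⟩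
    exact le_centralizer_iff.1 hle (mem_zpowers _)
  -- the centre of `C`
  set Z := C ⊓ centralizer (C : Set G) with hZ
  haveI : Z.Normal := normal_inf_normal _ _
  have hCcore : ∀ U : Subgroup G, U.Normal → (Nat.card ↥U).Coprime 2 → U = ⊥ := fun U hU hc =>
    le_bot_iff.1 (hO ▸ Cores.le_pPrimeCore hU hc)
  have hZ2 : IsPGroup 2 ↥Z := by
    rintro ⟨z, hz⟩
    obtain ⟨k, m, hm, hnm⟩ := Nat.exists_eq_two_pow_mul_odd (orderOf_pos z).ne'
    refine ⟨k, Subtype.ext ?_⟩
    show z ^ 2 ^ k = 1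
    set w := z ^ 2 ^ k with hw
    have hwm : w ^ m = 1 := by rw [hw, ← pow_mul, ← hnm, pow_orderOf_eq_one]
    -- the elements of `Z` of order dividing `m`
    have hcommZ : ∀ a ∈ Z, ∀ b ∈ Z, Commute a b := fun a ha b hb => mem_centralizer_iff.1 hb.2 a ha.1
    let U : Subgroup G :=
      { carrier := {a | a ∈ Z ∧ a ^ m = 1}
        one_mem' := ⟨one_mem _, one_pow _⟩
        mul_mem' := fun {a b} ha hb => ⟨Z.mul_mem ha.1 hb.1, by
          rw [(hcommZ a ha.1 b hb.1).mul_pow, ha.2, hb.2, one_mul]⟩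
        inv_mem' := fun {a} ha => ⟨Z.inv_mem ha.1, by rw [inv_pow, ha.2, inv_one]⟩ }
    have hU : U.Normal := ⟨fun a ha g => ⟨(inferInstance : Z.Normal).conj_mem a ha.1 g, by
      rw [conj_pow, ha.2, mul_one, mul_inv_cancel]⟩⟩
    have hcop : (Nat.card ↥U).Coprime 2 := by
      refine Nat.coprime_two_right.2 (Nat.odd_iff.2 (Nat.two_dvd_ne_zero.1 fun hd => ?_))
      obtain ⟨⟨a, ha⟩, ho⟩ := exists_prime_orderOf_dvd_card' (G := ↥U) 2 hd
      have h2 : (2 : ℕ) ∣ m := by
        rw [← ho, ← Subgroup.orderOf_coe]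
        exact orderOf_dvd_of_pow_eq_one ha.2
      exact (Nat.not_even_iff_odd.2 hm) (even_iff_two_dvd.2 h2)
    exact mem_bot.1 (hCcore U hU hcop ▸ (⟨Z.pow_mem hz _, hwm⟩ : w ∈ U))
  -- congruent members modulo `R` centralise `C`
  set R := E ⊔ Z with hR
  haveI : R.Normal := inferInstanceAs (E ⊔ Z).Normal
  have hRC : ∀ r ∈ R, ∀ c ∈ C, r * c = c * r := by
    intro r hr c hc
    obtain ⟨e, he, z, hz, rfl⟩ := mem_sup_of_normal_left.1 hr
    have h1 : z * c = c * z := (mem_centralizer_iff.1 hz.2 c hc).symm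
    rw [mul_assoc, h1, ← mul_assoc, hEc e he c hc, mul_assoc]
  have hiso : ∀ (P : Sylow 2 G) (x y : G), x ∈ T₁ → y ∈ T₂ → x ∈ (P : Subgroup G) → y ∈ (P : Subgroup G) →
      x⁻¹ * y ∈ R → ∀ c ∈ C, x * c = c * x := by
    intro P x y hx hy hxP hyP he
    set H := C ⊔ zpowers x with hH
    have hxH : x ∈ H := mem_sup_right (mem_zpowers x)
    have hiso : IsIsolated (⟨x, hxH⟩ : H) := by
      rintro ⟨g, hg⟩ hc
      refine Subtype.ext ?_
      show g * x * g⁻¹ = x
      have hc' : x * (g * x * g⁻¹) = g * x * g⁻¹ * x := congrArg Subtype.val hc.eq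
      obtain ⟨m, hm, z, hz, rfl⟩ := mem_sup_of_normal_left.1 hg
      obtain ⟨i, rfl⟩ := mem_zpowers_iff.1 hz
      have hgx : m * x ^ i * x * (m * x ^ i)⁻¹ = m * x * m⁻¹ := by group
      rw [hgx] at hc' ⊢
      set x' := m * x * m⁻¹ with hx'
      set u := x⁻¹ * x' with hu
      have huC : u ∈ C := by
        rw [hu, hx', show x⁻¹ * (m * x * m⁻¹) = (x⁻¹ * m * x) * m⁻¹ by group]
        refine C.mul_mem ?_ (C.inv_mem hm)
        simpa using hCn.conj_mem m hm x⁻¹
      set e := x⁻¹ * y with hedef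
      have hue : e * u = u * e := hRC e he u huC
      have hxu : x * u = u * x := by
        calc x * u = x' := by rw [hu, mul_inv_cancel_left]
          _ = x⁻¹ * (x * x') := (inv_mul_cancel_left x x').symm
          _ = x⁻¹ * (x' * x) := congrArg (x⁻¹ * ·) hc'
          _ = u * x := (mul_assoc x⁻¹ x' x).symm
      -- a 2-group containing `x`, `e`, `u`
      set Q₁ := closure ({x, e} : Set G) with hQ₁
      have hQ₁2 : IsPGroup 2 ↥Q₁ := P.isPGroup'.to_le ((closure_le _).2 (Set.insert_subset hxP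
        (Set.singleton_subset_iff.2 (mul_mem (inv_mem hxP) hyP))))
      have hu2 : IsPGroup 2 ↥(zpowers u) := by
        have hx'2 : x' ∈ T₁ := h.left.conj m x hx
        obtain ⟨a, ha⟩ := h.left.pow x hx
        obtain ⟨b, hb⟩ := h.left.pow x' hx'2
        have hcu : Commute x⁻¹ x' := (show Commute x x' from hc').inv_left
        have hupow : u ^ 2 ^ (a + b) = 1 := by
          rw [hu, hcu.mul_pow, inv_pow, pow_add, pow_mul, ha, one_pow, inv_one, one_mul, mul_comm,
            pow_mul, hb, one_pow]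
        obtain ⟨j, -, hj⟩ := (Nat.dvd_prime_pow Nat.prime_two).1 (orderOf_dvd_of_pow_eq_one hupow)
        rw [IsPGroup.iff_card]
        exact ⟨j, by rw [Nat.card_zpowers, hj]⟩
      have hP' : IsPGroup 2 ↥(Q₁ ⊔ zpowers u) := by
        refine ClosedPair.isPGroup_sup_zpowers hu2 hQ₁2 (centralizer_le_normalizer _ ?_)
        rw [hQ₁, centralizer_closure]
        refine mem_centralizer_iff.2 fun t ht => ?_
        rcases ht with rfl | ht
        · exact hxu
        · rw [Set.mem_singleton_iff] at ht; subst ht; exact hue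
      have hxQ : x ∈ Q₁ ⊔ zpowers u := mem_sup_left (subset_closure (Or.inl rfl))
      have huQ : u ∈ Q₁ ⊔ zpowers u := mem_sup_right (mem_zpowers u)
      have heQ : e ∈ Q₁ ⊔ zpowers u := mem_sup_left (subset_closure (Or.inr rfl))
      have hu1T : u ∈ T₁ := h.left.mul _ hP' _ (inv_mem hxQ) x'
        (by rw [show x' = x * u by rw [hu, mul_inv_cancel_left]]; exact mul_mem hxQ huQ)
        (h.left.inv_mem hx) (h.left.conj m x hx)
      have hy' : m * y * m⁻¹ = x' * e := by
        rw [show y = x * e by rw [hedef, mul_inv_cancel_left], show m * (x * e) * m⁻¹ = x' * (m * e * m⁻¹) by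
          rw [hx']; group, show m * e * m⁻¹ = e by rw [← hRC e he m hm, mul_inv_cancel_right]]
      have hu2T : u ∈ T₂ := by
        have hyQ : y ∈ Q₁ ⊔ zpowers u := by
          rw [show y = x * e by rw [hedef, mul_inv_cancel_left]]; exact mul_mem hxQ heQ
        have hy'Q : m * y * m⁻¹ ∈ Q₁ ⊔ zpowers u := by
          rw [hy', show x' = x * u by rw [hu, mul_inv_cancel_left]]
          exact mul_mem (mul_mem hxQ huQ) heQ
        have := h.right.mul _ hP' _ (inv_mem hyQ) _ hy'Q (h.right.inv_mem hy) (h.right.conj m y hy)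
        rwa [hy', show y = x * e by rw [hedef, mul_inv_cancel_left],
          show (x * e)⁻¹ * (x' * e) = e⁻¹ * u * e by rw [hu]; group,
          mul_assoc, ← hue, inv_mul_cancel_left] at this
      have := hDC u ⟨hu1T, hu2T⟩ huC
      rw [hu, inv_mul_eq_one] at this
      exact this.symm
    have hOH : pPrimeCore 2 ↥H = ⊥ := by
      have h1 := ClosedPair.core_inf_eq_bot hO (U := C) (L := H) le_sup_left
      rw [Subgroup.eq_bot_iff_forall]
      intro g hg
      refine Subtype.ext (mem_bot.1 (h1 ▸ ⟨⟨g, hg, rfl⟩, ?_⟩))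
      -- `H / C` is a 2-group
      set f := QuotientGroup.mk' C
      obtain ⟨m, hm, z, hz, hmz⟩ := mem_sup_of_normal_left.1 g.2
      obtain ⟨i, rfl⟩ := mem_zpowers_iff.1 hz
      have hfg : f (g : G) = f x ^ i := by
        rw [← hmz, map_mul, map_zpow, show f m = 1 from (QuotientGroup.eq_one_iff m).2 hm, one_mul]
      obtain ⟨a, ha⟩ := h.left.pow x hx
      have h2 : f (g : G) ^ 2 ^ a = 1 := by
        rw [hfg, ← zpow_natCast, ← zpow_mul, mul_comm, zpow_mul, zpow_natCast, ← map_pow, ha, map_one,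
          one_zpow]
      have h3 : f (g : G) ^ Nat.card ↥(pPrimeCore 2 ↥H) = 1 := by
        rw [← map_pow, show (g : G) ^ Nat.card ↥(pPrimeCore 2 ↥H) = 1 from
          congrArg (fun t : ↥(pPrimeCore 2 ↥H) => ((t : ↥H) : G)) (pow_card_eq_one' (x := (⟨g, hg⟩ : ↥(pPrimeCore 2 ↥H)))),
          map_one]
      have h4 := pow_gcd_eq_one.2 ⟨h2, h3⟩
      rw [(Nat.Coprime.pow_left a (Cores.coprime_card_pPrimeCore (G := ↥H) 2).symm).gcd_eq_one,
        pow_one] at h4
      exact (QuotientGroup.eq_one_iff _).1 h4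
    have hcen := ClosedPair.mem_center_of_isolated hOH (h.left.preimage H.subtype_injective)
      (x := ⟨x, hxH⟩) hx hiso
    intro c hc
    exact (congrArg Subtype.val (mem_center_iff.1 hcen ⟨c, mem_sup_left hc⟩)).symm
  -- congruent members lie in `R`
  have hmeet : ∀ x ∈ T₁, ∀ y ∈ T₂, x⁻¹ * y ∈ R → x ∈ R := by
    intro x hx y hy he
    obtain ⟨P, x', y', hx', hy', hxP, hyP, hxy, hxx⟩ := exists_lift_congr h.left h.right R hx hy he
    suffices hx'R : x' ∈ R by simpa using mul_mem hx'R (inv_mem hxx)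
    have hx'EC : x' ∈ E ⊔ C := mem_markedSup_sup fun K hK => mem_inner_of_congr hO hG h hK hx' hy'
      (hmarkE K hK (sup_le_sup_left inf_le_left E hxy))
    obtain ⟨e, he, c, hc, rfl⟩ := mem_sup_of_normal_left.1 hx'EC
    refine mul_mem_sup he ⟨hc, mem_centralizer_iff.2 fun d hd => ?_⟩
    have h1 := hiso P _ y' hx' hy' hxP hyP hxy d hd
    have h2 : e * d = d * e := hEc e he d hd
    calc d * c = e⁻¹ * (e * d * c) := by group
      _ = e⁻¹ * (d * e * c) := by rw [h2]
      _ = e⁻¹ * (e * c * d) := by rw [h1]; group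
      _ = c * d := by group
  -- the product theorem modulo `R`
  set f := QuotientGroup.mk' R
  have hdis : ClosedPair.ClosedPair (f '' T₁) (f '' T₂) :=
    ⟨(h.image R).left, (h.image R).right, (h.image R).comm, fun z hz1 hz2 => by
      obtain ⟨x, hx, rfl⟩ := hz1
      obtain ⟨y, hy, e⟩ := hz2
      exact (QuotientGroup.eq_one_iff x).2 (hmeet x hx y hy (QuotientGroup.eq.1 e.symm))⟩
  set M := (pPrimeCore 2 (G ⧸ R)).comap f with hM
  haveI : M.Normal := Normal.comap inferInstance _
  have hMC : M ⊓ C ≤ Z := by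
    haveI : (M ⊓ C).Normal := normal_inf_normal _ _
    have hRM : R ≤ M := fun r hr => by
      rw [hM, mem_comap, show f r = 1 from (QuotientGroup.eq_one_iff r).2 hr]; exact one_mem _
    refine le_of_central hO (le_inf ((le_sup_right : Z ≤ R).trans hRM) inf_le_left) hZ2 ?_ ?_
    · exact inf_le_right.trans (le_centralizer_iff.1 inf_le_right)
    · -- `(M ∩ C) / Z` embeds in the core
      have hRC' : R ⊓ (M ⊓ C) ≤ Z := fun r hr =>
        ⟨hr.2.2, mem_centralizer_iff.2 fun d hd => (hRC r hr.1 d hd).symm⟩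
      have h1 : Z.relIndex (M ⊓ C) ∣ R.relIndex (M ⊓ C) := by
        rw [← inf_relIndex_right R]; exact relIndex_dvd_of_le_left _ hRC'
      have h2 : R.relIndex (M ⊓ C) = Nat.card ↥((M ⊓ C).map f) := by
        rw [← relIndex_ker, QuotientGroup.ker_mk']
      refine Nat.Coprime.coprime_dvd_left h1 (h2 ▸ ?_)
      exact (Cores.coprime_card_pPrimeCore (G := G ⧸ R) 2).coprime_dvd_left
        (Subgroup.card_dvd_of_le (map_le_iff_le_comap.2 inf_le_left))
  intro x hx y hy
  refine mem_sup_left (markedSup_le_closure h ?_)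
  -- the commutator is in `R`
  have hmod : ∀ x ∈ T₁, ∀ y ∈ T₂, ⁅x, y⁆ ∈ R := by
    intro x hx y hy
    have hM' : ⁅x, y⁆ ∈ M := by
      rw [hM, mem_comap, map_commutatorElement]
      exact ClosedPair.conc hdis _ ⟨x, hx, rfl⟩ _ ⟨y, hy, rfl⟩
    have hEC : ⁅x, y⁆ ∈ E ⊔ C := mem_markedSup_sup fun K hK => commutator_mem_inner hO hG h hK hx hy
    obtain ⟨e, he, c, hc, hec⟩ := mem_sup_of_normal_left.1 hEC
    have hcM : c ∈ M := by
      have : e ∈ M := by
        rw [hM, mem_comap, show f e = 1 from (QuotientGroup.eq_one_iff e).2 (mem_sup_left he)]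
        exact one_mem _
      simpa [← hec] using mul_mem (inv_mem this) hM'
    rw [← hec]
    exact mul_mem_sup he (hMC ⟨hcM, hc⟩)
  -- modulo `E` the two generate a 2-group
  set g := QuotientGroup.mk' E
  haveI : (Z.map g).Normal := Normal.map inferInstance _ (QuotientGroup.mk'_surjective _)
  have hcg : g ⁅x, y⁆ ∈ Z.map g := by
    obtain ⟨e, he, z, hz, hez⟩ := mem_sup_of_normal_left.1 (hmod x hx y hy)
    exact ⟨z, hz, by rw [← hez, map_mul, show g e = 1 from (QuotientGroup.eq_one_iff e).2 he, one_mul]⟩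
  set Q := Z.map g ⊔ zpowers (g x) with hQdef
  have hQ2 : IsPGroup 2 ↥Q := IsPGroup.to_sup_of_normal_left (hZ2.map g)
    (by rw [← MonoidHom.map_zpowers]; exact (h.left.isPGroup_zpowers hx).map g)
  have hyQ : g y ∈ normalizer (Q : Set (G ⧸ E)) := by
    have hle : Q ≤ Q.comap (MulAut.conj (g y)).toMonoidHom := by
      refine sup_le (fun z hz => mem_sup_left ((inferInstance : (Z.map g).Normal).conj_mem z hz _))
        (zpowers_le.2 ?_)
      show g y * g x * (g y)⁻¹ ∈ Q
      have : g y * g x * (g y)⁻¹ = (g ⁅x, y⁆)⁻¹ * g x := by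
        rw [map_commutatorElement, commutatorElement_def]; group
      rw [this]
      exact mul_mem (mem_sup_left (inv_mem hcg)) (mem_sup_right (mem_zpowers _))
    exact Coprime.mem_normalizer_of_forall fun z hz => hle hz
  have hQy : IsPGroup 2 ↥(Q ⊔ zpowers (g y)) := ClosedPair.isPGroup_sup_zpowers
    (by rw [← MonoidHom.map_zpowers]; exact (h.right.isPGroup_zpowers hy).map g) hQ2 hyQ
  refine (QuotientGroup.eq_one_iff _).1 ?_
  show g ⁅x, y⁆ = 1
  rw [map_commutatorElement, commutatorElement_eq_one_iff_mul_comm]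
  exact (h.image E).comm _ hQy _ (mem_sup_left (mem_sup_right (mem_zpowers _))) _
    (mem_sup_right (mem_zpowers _)) ⟨x, hx, rfl⟩ ⟨y, hy, rfl⟩

end Cfsg.Agent.ProductMeet
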