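import Cfsg.Agent.Lib.ProductMeet.Main
import Cfsg.Agent.Lib.ClosedPair.Product

/-!
# Reduction to the main case, and the subgroup form (owner: helper10, S2767)

* `pairConc` : `[x, y] ∈ ⟨T₁ ∩ T₂⟩ O(G)` for every pair, given the facts on simple sections
* `commutator_normalClosure_le` : `[⟨S₁^G⟩, ⟨S₂^G⟩] ≤ ⟨(S₁ ∩ S₂)^G⟩ O(G)`
-/

set_option autoImplicit false
set_option linter.unusedSectionVars false
set_option linter.style.haveILetI false

namespace Cfsg.Agent.ProductMeet

open Cfsg Subgroup Cfsg.Agent.ClosedPair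
open scoped commutatorElement

universe u

theorem pairConc_aux : ∀ (n : ℕ) (G : Type u) [Group G] [Finite G] (T₁ T₂ : Set G),
    Nat.card G = n → SecGood G → Pair T₁ T₂ → Concl T₁ T₂ := by
  intro n
  induction n using Nat.strong_induction_on with
  | _ n ih =>
  intro G _ _ T₁ T₂ hn hG h
  haveI : Fact (Nat.Prime 2) := ⟨Nat.prime_two⟩
  haveI hcl := h.inter.normal_closure
  have hlt : ∀ (N : Subgroup G), N.Normal → N ≠ ⊥ → Nat.card (G ⧸ N) < n := fun N _ hN => by
    rw [← hn, Subgroup.card_eq_card_quotient_mul_card_subgroup N]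
    exact lt_mul_of_one_lt_right Nat.card_pos (Subgroup.one_lt_card_iff_ne_bot N |>.2 hN)
  -- the conclusion modulo `N`
  have step : ∀ (N : Subgroup G) [N.Normal], N ≠ ⊥ →
      (∀ x ∈ T₁, ∀ y ∈ T₂, x⁻¹ * y ∈ N → ∃ w ∈ T₁ ∩ T₂, x⁻¹ * w ∈ N) →
      ∀ x ∈ T₁, ∀ y ∈ T₂, ⁅x, y⁆ ∈ closure (T₁ ∩ T₂) ⊔ (pPrimeCore 2 (G ⧸ N)).comap (QuotientGroup.mk' N) := by
    intro N _ hN hmeet x hx y hy
    set f := QuotientGroup.mk' N
    have h1 := ih _ (hlt N inferInstance hN) (G ⧸ N) (f '' T₁) (f '' T₂) rfl (hG.quotient N) (h.image N)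
      (f x) ⟨x, hx, rfl⟩ (f y) ⟨y, hy, rfl⟩
    have hle : closure (f '' T₁ ∩ f '' T₂) ≤ (closure (T₁ ∩ T₂)).map f := by
      refine (closure_le _).2 ?_
      rintro z ⟨⟨a, ha, rfl⟩, b, hb, e⟩
      obtain ⟨w, hw, haw⟩ := hmeet a ha b hb (QuotientGroup.eq.1 e.symm)
      exact ⟨w, subset_closure hw, (QuotientGroup.eq.2 haw).symm⟩
    rw [← map_commutatorElement] at h1
    have h2 := sup_le_sup_right hle (pPrimeCore 2 (G ⧸ N)) h1
    rw [← map_comap_eq_self_of_surjective (QuotientGroup.mk'_surjective N) (pPrimeCore 2 (G ⧸ N)),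
      ← Subgroup.map_sup, ← mem_comap, comap_map_eq, QuotientGroup.ker_mk', sup_assoc] at h2
    refine sup_le_sup_left (sup_le le_rfl fun m hm => ?_) (closure (T₁ ∩ T₂)) h2
    rw [mem_comap, show f m = 1 from (QuotientGroup.eq_one_iff m).2 hm]
    exact one_mem _
  by_cases hO : pPrimeCore 2 G = ⊥
  swap
  · intro x hx y hy
    have h1 := step (pPrimeCore 2 G) hO (fun a ha b hb he => h.meet_core ha hb he) x hx y hy
    rwa [Cores.pPrimeCore_quotient_self, MonoidHom.comap_bot, QuotientGroup.ker_mk'] at h1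
  set B := h.inter.sub (pCore 2 G) (Cores.isPGroup_pCore 2 G) with hB
  haveI hQn : (pCore 2 G).Normal := Cores.pCore_normal 2 G
  haveI hBn : B.Normal := ⟨fun b hb g => ⟨hQn.conj_mem b hb.1 g, h.inter.conj g b hb.2⟩⟩
  have hB2 : IsPGroup 2 ↥B := (Cores.isPGroup_pCore 2 G).to_le fun b hb => hb.1
  by_cases hB0 : B = ⊥
  · exact concl_main hO hG h fun x hx hxQ => mem_bot.1 (hB0 ▸ (⟨hxQ, hx⟩ : x ∈ B))
  intro x hx y hy
  refine mem_sup_left ?_
  set W := closure (T₁ ∩ T₂)
  set M := (pPrimeCore 2 (G ⧸ B)).comap (QuotientGroup.mk' B) with hM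
  haveI : M.Normal := Normal.comap inferInstance _
  have h1 := step B hB0 (fun a ha b hb he => ⟨a, h.meet_normal hB2 (fun c hc => hc.2.2) ha hb he,
    by rw [inv_mul_cancel]; exact one_mem _⟩) x hx y hy
  obtain ⟨w, hw, m, hm, hwm⟩ := mem_sup_of_normal_left.1 h1
  haveI := h.left.normal_closure
  have hW1 : W ≤ closure T₁ := closure_mono Set.inter_subset_left
  have hcomm : ⁅x, y⁆ ∈ closure T₁ := by
    rw [commutatorElement_def, mul_assoc, mul_assoc, ← mul_assoc y]
    exact mul_mem (subset_closure hx)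
      ((inferInstance : (closure T₁).Normal).conj_mem _ (inv_mem (subset_closure hx)) y)
  have hm1 : m ∈ closure T₁ := by
    have := mul_mem (inv_mem (hW1 hw)) hcomm
    rwa [← hwm, inv_mul_cancel_left] at this
  have hBW : B ≤ W := fun b hb => subset_closure hb.2
  have hBM : B ≤ M := fun b hb => by
    rw [hM, mem_comap, show QuotientGroup.mk' B b = 1 from (QuotientGroup.eq_one_iff b).2 hb]
    exact one_mem _
  haveI : (M ⊓ closure T₁).Normal := normal_inf_normal _ _
  have hle : M ⊓ closure T₁ ≤ B := by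
    refine le_of_central hO (le_inf hBM (hBW.trans hW1)) hB2 ?_ ?_
    · refine inf_le_right.trans ((closure_le _).2 fun a ha => mem_centralizer_iff.2 fun b hb => ?_)
      have hP : IsPGroup 2 ↥(zpowers a ⊔ B) :=
        IsPGroup.to_sup_of_normal_right (h.left.isPGroup_zpowers ha) hB2
      exact (h.comm _ hP a (mem_sup_left (mem_zpowers a)) b (mem_sup_right hb) ha hb.2.2).symm
    · have e : B.relIndex (M ⊓ closure T₁) = Nat.card ↥((M ⊓ closure T₁).map (QuotientGroup.mk' B)) := by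
        rw [← relIndex_ker, QuotientGroup.ker_mk']
      rw [e]
      exact (Cores.coprime_card_pPrimeCore (G := G ⧸ B) 2).coprime_dvd_left
        (Subgroup.card_dvd_of_le (map_le_iff_le_comap.2 inf_le_left))
  rw [← hwm]
  exact mul_mem hw (hBW (hle ⟨hm, hm1⟩))

/-- **The product theorem with intersection**, for pairs. -/
theorem pairConc {G : Type u} [Group G] [Finite G] {T₁ T₂ : Set G} (hG : SecGood G) (h : Pair T₁ T₂) :
    Concl T₁ T₂ :=
  pairConc_aux _ G T₁ T₂ rfl hG h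

/-- The form with two commuting strongly closed subgroups. -/
theorem commutator_normalClosure_le {G : Type u} [Group G] [Finite G] (hG : SecGood G) (S : Sylow 2 G)
    {S₁ S₂ : Subgroup G} (h₁ : IsStronglyClosed S₁ (S : Subgroup G))
    (h₂ : IsStronglyClosed S₂ (S : Subgroup G)) (hc : ∀ a ∈ S₁, ∀ b ∈ S₂, a * b = b * a) :
    ⁅normalClosure (S₁ : Set G), normalClosure (S₂ : Set G)⁆ ≤
      normalClosure ((S₁ ⊓ S₂ : Subgroup G) : Set G) ⊔ pPrimeCore 2 G := by
  have hp : Pair (classOf S₁) (classOf S₂) := ⟨closed_classOf S h₁, closed_classOf S h₂,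
    fun P hP x hxP y hyP hx hy => by
      obtain ⟨g, hg⟩ := exists_conj_le S hP
      refine (MulAut.conj g).injective ?_
      rw [map_mul, map_mul]
      exact hc _ ((mem_classOf_iff h₁ (hg x hxP)).1 (classOf_conj g hx)) _
        ((mem_classOf_iff h₂ (hg y hyP)).1 (classOf_conj g hy))⟩
  set W := normalClosure ((S₁ ⊓ S₂ : Subgroup G) : Set G) ⊔ pPrimeCore 2 G with hW
  haveI : W.Normal := inferInstanceAs (normalClosure ((S₁ ⊓ S₂ : Subgroup G) : Set G) ⊔ pPrimeCore 2 G).Normal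
  have hD : closure (classOf S₁ ∩ classOf S₂) ≤ normalClosure ((S₁ ⊓ S₂ : Subgroup G) : Set G) := by
    refine (closure_le _).2 ?_
    rintro z ⟨⟨g, hg⟩, hz2⟩
    have h2 := (mem_classOf_iff h₂ (h₁.1 hg)).1 (classOf_conj g hz2)
    have := (inferInstance : (normalClosure ((S₁ ⊓ S₂ : Subgroup G) : Set G)).Normal).conj_mem _
      (subset_normalClosure (show g * z * g⁻¹ ∈ ((S₁ ⊓ S₂ : Subgroup G) : Set G) from ⟨hg, h2⟩)) g⁻¹
    rwa [show g⁻¹ * (g * z * g⁻¹) * g⁻¹⁻¹ = z by group] at this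
  have key : ∀ (A : Subgroup G), normalClosure (A : Set G) ≤ closure (classOf A) := fun A =>
    (closure_le _).2 fun x hx => by
      obtain ⟨a, ha, hconj⟩ := Group.mem_conjugatesOfSet_iff.1 hx
      obtain ⟨g, rfl⟩ := isConj_iff.1 hconj
      exact subset_closure (classOf_conj g (mem_classOf_of_mem ha))
  set f := QuotientGroup.mk' W
  have h0 : ∀ x ∈ classOf S₁, ∀ y ∈ classOf S₂, f x * f y = f y * f x := fun x hx y hy => by
    rw [← commutatorElement_eq_one_iff_mul_comm, ← map_commutatorElement]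
    exact (QuotientGroup.eq_one_iff _).2 (sup_le_sup_right hD _ (pairConc hG hp x hx y hy))
  refine (commutator_mono (key S₁) (key S₂)).trans ?_
  rw [← QuotientGroup.ker_mk' W, ← Subgroup.map_eq_bot_iff, map_commutator, commutator_eq_bot_iff_le_centralizer,
    MonoidHom.map_closure, MonoidHom.map_closure, centralizer_closure, closure_le]
  rintro _ ⟨x, hx, rfl⟩
  refine mem_centralizer_iff.2 ?_
  rintro _ ⟨y, hy, rfl⟩
  exact (h0 x hx y hy).symm

end Cfsg.Agent.ProductMeet
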